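import Mathlib
import Cfsg.Prelude.Def_OddOrderLocal
import Cfsg.Agent.H2.TIHall

/-!
# TI subgroups that are Hall in their normalizer, in a `π`-separable group

`H` a TI-subgroup of the finite group `G`, with `|H|` coprime to `|N_G(H) : H|`.
* `hall_of_TI`: `H` is a Hall subgroup of `G`.
* `exists_largest_normal_coprime`, `sup_normalizer_eq_top`: if moreover `G` is `π(H)`-separable and
  `H` is not normal, then `G = O · N_G(H)` with `O` the largest normal `π(H)'`-subgroup.
-/

namespace Cfsg.Agent.Lib.Helper5.TIH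

open scoped Pointwise

variable {G : Type*} [Group G]

/-- a subgroup of the normalizer of `H` of order coprime to `|N(H) : H|` lies in `H` -/
lemma le_of_le_normalizer_of_coprime_relIndex [Finite G] (H K₁ : Subgroup G)
    (h : K₁ ≤ Subgroup.normalizer (H : Set G))
    (hc : (Nat.card K₁).Coprime (H.subgroupOf (Subgroup.normalizer (H : Set G))).index) :
    K₁ ≤ H := by
  obtain ⟨N, hN⟩ : ∃ N : Subgroup G, N = Subgroup.normalizer (H : Set G) := ⟨_, rfl⟩
  rw [← hN] at h hc
  have : (H.subgroupOf N).Normal := by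
    rw [hN]; exact Subgroup.normal_in_normalizer
  have h1 : (H.subgroupOf N).relIndex (K₁.subgroupOf N) = 1 := by
    apply Nat.eq_one_of_dvd_coprimes hc
    · have := Subgroup.relIndex_dvd_card (H.subgroupOf N) (K₁.subgroupOf N)
      rwa [Nat.card_congr (Subgroup.subgroupOfEquivOfLe h).toEquiv] at this
    · exact Subgroup.relIndex_dvd_index_of_normal _ _
  rw [Subgroup.relIndex_eq_one] at h1
  intro x hx
  have : (⟨x, h hx⟩ : N) ∈ H.subgroupOf N := h1 (by rw [Subgroup.mem_subgroupOf]; exact hx)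
  rwa [Subgroup.mem_subgroupOf] at this

/-- TI: an element conjugating a nontrivial element of `H` into `H` normalizes `H`. -/
lemma mem_normalizer_of_TI (H : Subgroup G) (hTI : Cfsg.IsTISubset (H : Set G)) (g y : G)
    (hy : y ∈ H) (hy1 : y ≠ 1) (hgy : g * y * g⁻¹ ∈ H) : g ∈ Subgroup.normalizer (H : Set G) := by
  by_contra hg
  exact hy1 (hTI g hg y hy hgy)

/-- **A TI-subgroup which is a Hall subgroup of its normalizer is a Hall subgroup.** -/
theorem hall_of_TI [Finite G] (H : Subgroup G) (hTI : Cfsg.IsTISubset (H : Set G))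
    (hHall : (Nat.card H).Coprime (H.subgroupOf (Subgroup.normalizer (H : Set G))).index) :
    (Nat.card H).Coprime H.index := by
  by_contra hc
  obtain ⟨p, hp, hpH, hpI⟩ := Nat.Prime.not_coprime_iff_dvd.mp hc
  have : Fact p.Prime := ⟨hp⟩
  obtain ⟨P⟩ : Nonempty (Sylow p H) := inferInstance
  obtain ⟨P0, hP0⟩ : ∃ P0 : Subgroup G, P0 = (P : Subgroup H).map H.subtype := ⟨_, rfl⟩
  have hP0H : P0 ≤ H := by rw [hP0]; exact Subgroup.map_subtype_le _
  obtain ⟨n, hn⟩ : ∃ n, n = (Nat.card H).factorization p := ⟨_, rfl⟩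
  have hcardP : Nat.card P0 = p ^ n := by
    rw [hP0, Subgroup.card_map_of_injective (Subgroup.subtype_injective H), hn]
    exact P.card_eq_multiplicity
  have hn1 : 1 ≤ n := by
    rw [hn]; exact (hp.dvd_iff_one_le_factorization (Nat.card_pos.ne')).mp hpH
  have hdvd : p ^ (n + 1) ∣ Nat.card G := by
    rw [← H.card_mul_index, pow_succ, hn]
    exact mul_dvd_mul (Nat.ordProj_dvd _ _) hpI
  have h1 := Sylow.prime_dvd_card_quotient_normalizer hdvd hcardP
  have hnorm0 : (Subgroup.comap (Subgroup.normalizer (P0 : Set G)).subtype P0).Normal :=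
    Subgroup.normal_in_normalizer
  obtain ⟨xbar, hxbar⟩ := exists_prime_orderOf_dvd_card' p h1
  obtain ⟨x, rfl⟩ := QuotientGroup.mk_surjective xbar
  -- `x ∉ P0`, `x ^ p ∈ P0`
  have hxP0 : (x : G) ∉ P0 := by
    intro hx
    have : (QuotientGroup.mk x : _ ⧸ Subgroup.comap (Subgroup.normalizer (P0 : Set G)).subtype P0) = 1 := by
      rw [QuotientGroup.eq_one_iff]; exact hx
    rw [this, orderOf_one] at hxbar
    exact hp.one_lt.ne hxbar
  have hxp : (x : G) ^ p ∈ P0 := by
    have : (QuotientGroup.mk x : _ ⧸ Subgroup.comap (Subgroup.normalizer (P0 : Set G)).subtype P0) ^ p = 1 := by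
      rw [← hxbar]; exact pow_orderOf_eq_one _
    rw [← QuotientGroup.mk_pow, QuotientGroup.eq_one_iff] at this
    exact this
  -- `x` is a `p`-element
  have hxo : orderOf (x : G) ∣ p ^ (n + 1) := by
    apply orderOf_dvd_of_pow_eq_one
    rw [pow_succ', pow_mul]
    have : (⟨(x : G) ^ p, hxp⟩ : P0) ^ Nat.card P0 = 1 := pow_card_eq_one'
    rw [hcardP] at this
    exact congrArg Subtype.val this
  have hxnorm : ∀ h : G, h ∈ P0 ↔ (x : G) * h * (x : G)⁻¹ ∈ P0 :=
    Subgroup.mem_normalizer_iff.mp x.2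
  obtain ⟨x0, hx0⟩ : ∃ x0 : G, x0 = (x : G) := ⟨_, rfl⟩
  rw [← hx0] at hxP0 hxp hxo hxnorm
  -- a nontrivial element of `P0`
  have hP0nt : ∃ y ∈ P0, y ≠ 1 := by
    by_contra hcon
    push Not at hcon
    have : P0 = ⊥ := by
      rw [eq_bot_iff]; intro y hy; rw [Subgroup.mem_bot]; exact hcon y hy
    rw [this, Subgroup.card_bot] at hcardP
    have : 1 < p ^ n := Nat.one_lt_pow (by omega) hp.one_lt
    omega
  obtain ⟨y, hyP, hy1⟩ := hP0nt
  have hxN : x0 ∈ Subgroup.normalizer (H : Set G) := by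
    apply mem_normalizer_of_TI H hTI _ y (hP0H hyP) hy1
    exact hP0H ((hxnorm y).mp hyP)
  -- hence `x ∈ H`
  have hpcop : (p ^ (n + 1)).Coprime (H.subgroupOf (Subgroup.normalizer (H : Set G))).index := by
    apply Nat.Coprime.pow_left
    exact Nat.Coprime.coprime_dvd_left hpH hHall
  have hxH : x0 ∈ H := by
    have := le_of_le_normalizer_of_coprime_relIndex H (Subgroup.zpowers x0)
      (by rw [Subgroup.zpowers_le]; exact hxN)
      (by rw [Nat.card_zpowers]; exact Nat.Coprime.coprime_dvd_left hxo hpcop)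
    exact this (Subgroup.mem_zpowers _)
  -- `P ⊔ ⟨x⟩` is a `p`-subgroup of `H`
  have hPx : IsPGroup p (Subgroup.zpowers (⟨x0, hxH⟩ : H)) := by
    obtain ⟨k, hk⟩ := (Nat.dvd_prime_pow hp).mp hxo
    apply IsPGroup.of_card (n := k)
    rw [Nat.card_zpowers, ← hk.2]
    exact (Subgroup.orderOf_coe (⟨x0, hxH⟩ : H)).symm
  have hnorm : Subgroup.zpowers (⟨x0, hxH⟩ : H) ≤ Subgroup.normalizer ((P : Subgroup H) : Set H) := by
    rw [Subgroup.zpowers_le, Subgroup.mem_normalizer_iff]
    intro h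
    have h3 := hxnorm (h : G)
    rw [hP0] at h3
    constructor
    · intro hh
      have : (h : G) ∈ (P : Subgroup H).map H.subtype := ⟨h, hh, rfl⟩
      obtain ⟨z, hz, hz'⟩ := h3.mp this
      have : z = ⟨x0, hxH⟩ * h * (⟨x0, hxH⟩ : H)⁻¹ := Subtype.ext (by simpa using hz')
      rw [← this]; exact hz
    · intro hh
      have : x0 * (h : G) * x0⁻¹ ∈ (P : Subgroup H).map H.subtype :=
        ⟨_, hh, by simp⟩
      obtain ⟨z, hz, hz'⟩ := h3.mpr this
      have : z = h := Subtype.ext (by simpa using hz')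
      rw [← this]; exact hz
  have hsup := IsPGroup.to_sup_of_normal_right' hPx P.2 hnorm
  have heq := P.is_maximal' hsup le_sup_right
  have : (⟨x0, hxH⟩ : H) ∈ (P : Subgroup H) := by
    rw [← heq]; exact Subgroup.mem_sup_left (Subgroup.mem_zpowers _)
  apply hxP0
  rw [hP0]
  exact ⟨_, this, rfl⟩

/-- `|B A|` divides `|A| |B|` for `A` normal -/
lemma card_sup_dvd [Finite G] (A B : Subgroup G) [A.Normal] :
    Nat.card (B ⊔ A : Subgroup G) ∣ Nat.card A * Nat.card B := by
  have h1 := Subgroup.relIndex_mul_relIndex ⊥ A (B ⊔ A) bot_le le_sup_right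
  rw [Subgroup.relIndex_bot_left, Subgroup.relIndex_bot_left, Subgroup.relIndex_sup_right] at h1
  rw [← h1]
  exact Nat.mul_dvd_mul_left _ (Subgroup.relIndex_dvd_card A B)

/-- `|T : T ∩ H|` divides `|G : H|` for `T` normal -/
lemma relIndex_dvd_index_of_normal_right [Finite G] (H T : Subgroup G) [T.Normal] :
    H.relIndex T ∣ H.index := by
  have h1 := Subgroup.relIndex_mul_relIndex ⊥ T (H ⊔ T) bot_le le_sup_right
  rw [Subgroup.relIndex_bot_left, Subgroup.relIndex_bot_left, Subgroup.relIndex_sup_right] at h1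
  have h2 := Subgroup.relIndex_mul_relIndex ⊥ (T ⊓ H) H bot_le inf_le_right
  rw [Subgroup.relIndex_bot_left, Subgroup.relIndex_bot_left, Subgroup.inf_relIndex_right] at h2
  have h3 := Subgroup.relIndex_mul_relIndex ⊥ (H ⊓ T) T bot_le inf_le_right
  rw [Subgroup.relIndex_bot_left, Subgroup.relIndex_bot_left, Subgroup.inf_relIndex_right] at h3
  have h4 := Subgroup.relIndex_mul_relIndex ⊥ H (H ⊔ T) bot_le le_sup_left
  rw [Subgroup.relIndex_bot_left, Subgroup.relIndex_bot_left] at h4
  have h5 : H.relIndex T = H.relIndex (H ⊔ T) := by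
    have hpos : 0 < Nat.card (H ⊓ T : Subgroup G) * Nat.card H :=
      Nat.mul_pos Nat.card_pos Nat.card_pos
    apply Nat.eq_of_mul_eq_mul_left hpos
    rw [inf_comm] at h2
    calc Nat.card (H ⊓ T : Subgroup G) * Nat.card H * H.relIndex T
        = (Nat.card (H ⊓ T : Subgroup G) * H.relIndex T) * Nat.card H := by ring
      _ = Nat.card T * (Nat.card (H ⊓ T : Subgroup G) * T.relIndex H) := by rw [h3, h2]
      _ = (Nat.card T * T.relIndex H) * Nat.card (H ⊓ T : Subgroup G) := by ring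
      _ = (Nat.card H * H.relIndex (H ⊔ T)) * Nat.card (H ⊓ T : Subgroup G) := by rw [h1, h4]
      _ = Nat.card (H ⊓ T : Subgroup G) * Nat.card H * H.relIndex (H ⊔ T) := by ring
  rw [h5]
  exact Subgroup.relIndex_dvd_index_of_le le_sup_left

/-- there is a largest normal subgroup of order coprime to `|H|` -/
lemma exists_largest_normal_coprime [Finite G] (H : Subgroup G) :
    ∃ O : Subgroup G, O.Normal ∧ (Nat.card O).Coprime (Nat.card H) ∧
      ∀ K : Subgroup G, K.Normal → (Nat.card K).Coprime (Nat.card H) → K ≤ O := by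
  have hne : Nonempty {K : Subgroup G // K.Normal ∧ (Nat.card K).Coprime (Nat.card H)} :=
    ⟨⟨⊥, inferInstance, by rw [Subgroup.card_bot]; exact Nat.coprime_one_left _⟩⟩
  obtain ⟨⟨O, hOn, hOc⟩, hmax⟩ := Finite.exists_max
    (fun K : {K : Subgroup G // K.Normal ∧ (Nat.card K).Coprime (Nat.card H)} => Nat.card K.1)
  refine ⟨O, hOn, hOc, ?_⟩
  intro K hKn hKc
  have h1 : (K ⊔ O).Normal := Subgroup.sup_normal K O
  have h2 : (Nat.card (K ⊔ O : Subgroup G)).Coprime (Nat.card H) :=
    Nat.Coprime.coprime_dvd_left (card_sup_dvd O K) (Nat.Coprime.mul_left hOc hKc)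
  have h3 : Nat.card (K ⊔ O : Subgroup G) ≤ Nat.card O := hmax ⟨K ⊔ O, h1, h2⟩
  have h4 : O = K ⊔ O := Subgroup.eq_of_le_of_card_ge le_sup_right h3
  rw [h4]; exact le_sup_left

/-- the `sSup` of the normal subgroups of order coprime to `|H|` is the largest one -/
lemma sSup_props [Finite G] (H : Subgroup G) (O : Subgroup G)
    (hO : O = sSup {K : Subgroup G | K.Normal ∧ (Nat.card K).Coprime (Nat.card H)}) :
    O.Normal ∧ (Nat.card O).Coprime (Nat.card H) ∧
      ∀ K : Subgroup G, K.Normal → (Nat.card K).Coprime (Nat.card H) → K ≤ O := by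
  obtain ⟨O', hn, hc, hmax⟩ := exists_largest_normal_coprime H
  have : O = O' := by
    rw [hO]
    apply le_antisymm
    · exact sSup_le (fun K hK => hmax K hK.1 hK.2)
    · exact le_sSup ⟨hn, hc⟩
  rw [this]; exact ⟨hn, hc, hmax⟩

/-- `π`-separability: above `O` there is a normal subgroup `T` with `T/O` a nontrivial `π`-group -/
lemma exists_pi_step [Finite G] (H : Subgroup G) (hnn : ¬ H.Normal)
    (hsep : ∃ (n : ℕ) (M : Fin (n + 1) → Subgroup G), M 0 = ⊥ ∧ M (Fin.last n) = ⊤ ∧ Monotone M ∧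
      (∀ i, (M i).Normal) ∧
      ∀ i : Fin n, (∀ q : ℕ, q.Prime → q ∣ (M i.castSucc).relIndex (M i.succ) → q ∣ Nat.card H) ∨
        ((M i.castSucc).relIndex (M i.succ)).Coprime (Nat.card H))
    (O : Subgroup G) (hOn : O.Normal) (hOc : (Nat.card O).Coprime (Nat.card H))
    (hOmax : ∀ K : Subgroup G, K.Normal → (Nat.card K).Coprime (Nat.card H) → K ≤ O) :
    ∃ T : Subgroup G, T.Normal ∧ O ≤ T ∧ O.relIndex T ≠ 1 ∧
      ∀ q : ℕ, q.Prime → q ∣ O.relIndex T → q ∣ Nat.card H := by
  obtain ⟨n, M, hM0, hMl, hMmono, hMn, hMstep⟩ := hsep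
  have hA : ∃ i : Fin n, M i.castSucc ≤ O ∧ ¬ M i.succ ≤ O := by
    by_contra hcon
    push Not at hcon
    have hall : ∀ i : Fin (n + 1), M i ≤ O := by
      intro i
      induction i using Fin.induction with
      | zero => rw [hM0]; exact bot_le
      | succ i ih => exact hcon i ih
    have htop : O = ⊤ := by rw [eq_top_iff, ← hMl]; exact hall _
    have h1 : Nat.card H ∣ Nat.card O := by
      rw [htop, Subgroup.card_top]; exact Subgroup.card_subgroup_dvd_card H
    have h2 : Nat.card H = 1 := hOc.symm.eq_one_of_dvd h1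
    rw [Subgroup.card_eq_one] at h2
    apply hnn
    rw [h2]; infer_instance
  obtain ⟨i, hi1, hi2⟩ := hA
  have hle : M i.castSucc ≤ M i.succ := hMmono (Fin.castSucc_lt_succ).le
  have hpi : ∀ q : ℕ, q.Prime → q ∣ (M i.castSucc).relIndex (M i.succ) → q ∣ Nat.card H := by
    rcases hMstep i with h | h
    · exact h
    · exfalso
      apply hi2
      apply hOmax _ (hMn _)
      have h3 := Subgroup.relIndex_mul_relIndex ⊥ (M i.castSucc) (M i.succ) bot_le hle
      rw [Subgroup.relIndex_bot_left, Subgroup.relIndex_bot_left] at h3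
      rw [← h3]
      exact Nat.Coprime.mul_left
        (Nat.Coprime.coprime_dvd_left (Subgroup.card_dvd_of_le hi1) hOc) h
  have := hMn i.succ
  refine ⟨M i.succ ⊔ O, Subgroup.sup_normal _ _, le_sup_right, ?_, ?_⟩
  · rw [Subgroup.relIndex_sup_right]
    intro h
    rw [Subgroup.relIndex_eq_one] at h
    exact hi2 h
  · intro q hq hqd
    rw [Subgroup.relIndex_sup_right] at hqd
    exact hpi q hq (dvd_trans hqd (Subgroup.relIndex_dvd_of_le_left _ hi1))

/-- **`G = O · N_G(H)`**. -/
theorem sup_normalizer_eq_top [Finite G] (H : Subgroup G)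
    (hTI : Cfsg.IsTISubset (H : Set G)) (hnn : ¬ H.Normal)
    (hHall : (Nat.card H).Coprime (H.subgroupOf (Subgroup.normalizer (H : Set G))).index)
    (hsep : ∃ (n : ℕ) (M : Fin (n + 1) → Subgroup G), M 0 = ⊥ ∧ M (Fin.last n) = ⊤ ∧ Monotone M ∧
      (∀ i, (M i).Normal) ∧
      ∀ i : Fin n, (∀ q : ℕ, q.Prime → q ∣ (M i.castSucc).relIndex (M i.succ) → q ∣ Nat.card H) ∨
        ((M i.castSucc).relIndex (M i.succ)).Coprime (Nat.card H))
    (O : Subgroup G) (hOn : O.Normal) (hOc : (Nat.card O).Coprime (Nat.card H))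
    (hOmax : ∀ K : Subgroup G, K.Normal → (Nat.card K).Coprime (Nat.card H) → K ≤ O) :
    O ⊔ Subgroup.normalizer (H : Set G) = ⊤ := by
  have hhall := hall_of_TI H hTI hHall
  obtain ⟨T, hTn, hOT, hr1, hrpi⟩ := exists_pi_step H hnn hsep O hOn hOc hOmax
  -- Step 1: `T N(H) = G` by the Frattini argument
  have hTN : T ⊔ Subgroup.normalizer (H : Set G) = ⊤ := by
    obtain ⟨p, hp, hpr⟩ := Nat.exists_prime_and_dvd hr1
    have : Fact p.Prime := ⟨hp⟩
    have hpH := hrpi p hp hpr
    have hpT : p ∣ Nat.card T := dvd_trans hpr (Subgroup.relIndex_dvd_card O T)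
    obtain ⟨P⟩ : Nonempty (Sylow p T) := inferInstance
    have hfr := Sylow.normalizer_sup_eq_top P
    obtain ⟨P0, hP0⟩ : ∃ P0 : Subgroup G, P0 = (P : Subgroup T).map T.subtype := ⟨_, rfl⟩
    rw [← hP0] at hfr
    have hcardP : Nat.card P0 = p ^ (Nat.card T).factorization p := by
      rw [hP0, Subgroup.card_map_of_injective (Subgroup.subtype_injective T)]
      exact P.card_eq_multiplicity
    have hcop : (Nat.card P0).Coprime H.index := by
      rw [hcardP]; apply Nat.Coprime.pow_left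
      exact Nat.Coprime.coprime_dvd_left hpH hhall
    obtain ⟨a, ha⟩ := Cfsg.Agent.H2.TIHall.exists_le_conj H hTI P0 hcop
    have hP0nt : ∃ y ∈ P0, y ≠ 1 := by
      by_contra hcon
      push Not at hcon
      have hbot : P0 = ⊥ := by
        rw [eq_bot_iff]; intro y hy; rw [Subgroup.mem_bot]; exact hcon y hy
      rw [hbot, Subgroup.card_bot] at hcardP
      have h1 : 1 ≤ (Nat.card T).factorization p :=
        (hp.dvd_iff_one_le_factorization (Nat.card_pos.ne')).mp hpT
      have : 1 < p ^ (Nat.card T).factorization p := Nat.one_lt_pow (by omega) hp.one_lt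
      omega
    obtain ⟨y, hyP, hy1⟩ := hP0nt
    rw [eq_top_iff]
    intro g _
    have hg : a * g * a⁻¹ ∈ Subgroup.normalizer (P0 : Set G) ⊔ T := by rw [hfr]; trivial
    rw [Subgroup.mem_sup_of_normal_right] at hg
    obtain ⟨m, hm, t, ht, hmt⟩ := hg
    have hm' : a⁻¹ * m * a ∈ Subgroup.normalizer (H : Set G) := by
      apply mem_normalizer_of_TI H hTI _ (a⁻¹ * y * a)
      · exact (Cfsg.Agent.H2.TIHall.mem_conj H a y).mp (ha hyP)
      · intro h
        apply hy1
        have : y = a * (a⁻¹ * y * a) * a⁻¹ := by group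
        rw [this, h]; group
      · have h6 := ha ((Subgroup.mem_normalizer_iff.mp hm y).mp hyP)
        rw [Cfsg.Agent.H2.TIHall.mem_conj] at h6
        have e : a⁻¹ * m * a * (a⁻¹ * y * a) * (a⁻¹ * m * a)⁻¹ = a⁻¹ * (m * y * m⁻¹) * a := by
          group
        rw [e]; exact h6
    have ht' : a⁻¹ * t * a ∈ T := by
      have := hTn.conj_mem t ht a⁻¹
      rwa [inv_inv] at this
    have hgeq : g = (a⁻¹ * m * a) * (a⁻¹ * t * a) := by
      have : a⁻¹ * m * a * (a⁻¹ * t * a) = a⁻¹ * (m * t) * a := by group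
      rw [this, hmt]; group
    rw [hgeq]
    exact Subgroup.mul_mem _ (Subgroup.mem_sup_right hm') (Subgroup.mem_sup_left ht')
  -- Step 2: `T = (H ∩ T) O`
  have hDO : (H ⊓ T) ⊔ O = T := by
    have h3 := Subgroup.relIndex_mul_relIndex ⊥ (H ⊓ T) T bot_le inf_le_right
    rw [Subgroup.relIndex_bot_left, Subgroup.relIndex_bot_left, Subgroup.inf_relIndex_right] at h3
    have h4 := Subgroup.relIndex_mul_relIndex ⊥ O T bot_le hOT
    rw [Subgroup.relIndex_bot_left, Subgroup.relIndex_bot_left] at h4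
    have hs : H.relIndex T ∣ H.index := relIndex_dvd_index_of_normal_right H T
    have hrs : (O.relIndex T).Coprime (H.relIndex T) := by
      by_contra hc
      obtain ⟨q, hq, hq1, hq2⟩ := Nat.Prime.not_coprime_iff_dvd.mp hc
      have h5 := hrpi q hq hq1
      have h6 : q ∣ H.index := dvd_trans hq2 hs
      have := Nat.Coprime.eq_one_of_dvd (Nat.Coprime.coprime_dvd_left h5 hhall) h6
      exact hq.one_lt.ne' this
    have hrD : O.relIndex T ∣ Nat.card (H ⊓ T : Subgroup G) := by
      apply Nat.Coprime.dvd_of_dvd_mul_right hrs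
      rw [h3]
      exact Subgroup.relIndex_dvd_card O T
    have hdisj : O ⊓ (H ⊓ T) = ⊥ := by
      apply (Subgroup.disjoint_of_coprime_natCard _).eq_bot
      exact Nat.Coprime.coprime_dvd_right (Subgroup.card_dvd_of_le inf_le_left) hOc
    have h7 : O.relIndex (H ⊓ T) = Nat.card (H ⊓ T : Subgroup G) := by
      rw [← Subgroup.inf_relIndex_right, hdisj, Subgroup.relIndex_bot_left]
    have h8 := Subgroup.relIndex_mul_relIndex ⊥ O ((H ⊓ T) ⊔ O) bot_le le_sup_right
    rw [Subgroup.relIndex_bot_left, Subgroup.relIndex_bot_left, Subgroup.relIndex_sup_right, h7]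
      at h8
    apply Subgroup.eq_of_le_of_card_ge (sup_le inf_le_right hOT)
    rw [← h8, ← h4]
    exact Nat.mul_le_mul_left _ (Nat.le_of_dvd Nat.card_pos hrD)
  rw [eq_top_iff, ← hTN]
  apply sup_le _ le_sup_right
  rw [← hDO]
  exact sup_le (le_trans inf_le_left (le_trans Subgroup.le_normalizer le_sup_right)) le_sup_left

/-- `O H` is normal in `G` once `G = O N_G(H)` -/
lemma sup_normal_of_sup_normalizer (H O : Subgroup G) (hOn : O.Normal)
    (hc : O ⊔ Subgroup.normalizer (H : Set G) = ⊤) : (O ⊔ H).Normal := by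
  rw [← Subgroup.normalizer_eq_top_iff, eq_top_iff, ← hc]
  apply sup_le
  · exact le_trans le_sup_left Subgroup.le_normalizer
  · intro g hg
    have key : ∀ g : G, g ∈ Subgroup.normalizer (H : Set G) → ∀ x ∈ O ⊔ H, g * x * g⁻¹ ∈ O ⊔ H := by
      intro g hg x hx
      rw [sup_comm, Subgroup.mem_sup_of_normal_right] at hx ⊢
      obtain ⟨y, hy, z, hz, rfl⟩ := hx
      refine ⟨g * y * g⁻¹, (Subgroup.mem_normalizer_iff.mp hg y).mp hy, g * z * g⁻¹,
        hOn.conj_mem z hz g, by group⟩
    rw [Subgroup.mem_normalizer_iff]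
    intro x
    constructor
    · exact key g hg x
    · intro hx
      have := key g⁻¹ (Subgroup.inv_mem _ hg) _ hx
      have e : g⁻¹ * (g * x * g⁻¹) * g⁻¹⁻¹ = x := by group
      rwa [e] at this

/-- `H` is not normal in `O H` -/
lemma not_normal_subgroupOf_sup (H O : Subgroup G) (hnn : ¬ H.Normal)
    (hc : O ⊔ Subgroup.normalizer (H : Set G) = ⊤) : ¬ (H.subgroupOf (O ⊔ H)).Normal := by
  intro h
  apply hnn
  rw [← Subgroup.normalizer_eq_top_iff, eq_top_iff, ← hc]
  have h1 : O ⊔ H ≤ Subgroup.normalizer (H : Set G) :=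
    (Subgroup.normal_subgroupOf_iff_le_normalizer le_sup_right).mp h
  exact sup_le (le_trans le_sup_left h1) le_rfl

end Cfsg.Agent.Lib.Helper5.TIH
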