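import Mathlib
import Cfsg.Prelude.Def_OddOrderLocal
import Cfsg.Agent.Lib.Helper5.TIH.Basic
import Cfsg.Agent.Lib.Helper7.CoprimeGen
import Cfsg.Agent.Lib.S3358.U1
import Cfsg.Agent.Lib.Helper5.S0686.Core

/-!
# A non-normal TI subgroup `H` with `G = O N_G(H)`, `O` a normal `π(H)'`-subgroup,
has no subgroup `C_p × C_p`; with abelian Sylow `2`-subgroups all its Sylow subgroups are cyclic.
-/

namespace Cfsg.Agent.Lib.Helper5.TIH

variable {G : Type*} [Group G]

/-- `H` has no subgroup of type `(p, p)` -/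
theorem PU_of_TI [Finite G] (H : Subgroup G) (hTI : Cfsg.IsTISubset (H : Set G))
    (hnn : ¬ H.Normal) (O : Subgroup G) (hOn : O.Normal)
    (hOc : (Nat.card O).Coprime (Nat.card H))
    (hc : O ⊔ Subgroup.normalizer (H : Set G) = ⊤) : Cfsg.Agent.S3358L.PU H := by
  intro p a b hp ha hb hab
  by_contra hnot
  have : Fact p.Prime := ⟨hp⟩
  obtain ⟨A, hA⟩ : ∃ A : Subgroup G, A = Subgroup.closure {(a : G), (b : G)} := ⟨_, rfl⟩
  have haA : (a : G) ∈ A := by rw [hA]; exact Subgroup.subset_closure (by simp)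
  have hbA : (b : G) ∈ A := by rw [hA]; exact Subgroup.subset_closure (by simp)
  have hAH : A ≤ H := by
    rw [hA, Subgroup.closure_le]
    intro x hx
    rcases hx with rfl | rfl
    · exact a.2
    · exact b.2
  have hab' : (a : G) * (b : G) = (b : G) * (a : G) := by
    have := congrArg Subtype.val hab
    simpa using this
  have hcommA : IsMulCommutative A := by
    rw [hA]
    apply Subgroup.isMulCommutative_closure
    intro x hx y hy
    rcases hx with rfl | rfl <;> rcases hy with rfl | rfl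
    · rfl
    · exact hab'
    · exact hab'.symm
    · rfl
  have hcomm : ∀ x ∈ A, ∀ y ∈ A, x * y = y * x := by
    intro x hx y hy
    have := hcommA.is_comm.comm (⟨x, hx⟩ : A) ⟨y, hy⟩
    exact congrArg Subtype.val this
  have hap : (a : G) ^ p = 1 := by
    rw [← ha, ← Subgroup.orderOf_coe]; exact pow_orderOf_eq_one _
  have hbp : (b : G) ^ p = 1 := by
    rw [← hb, ← Subgroup.orderOf_coe]; exact pow_orderOf_eq_one _
  have ha1 : (a : G) ≠ 1 := by
    intro h
    have : a = 1 := Subtype.ext h
    rw [this, orderOf_one] at ha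
    exact hp.one_lt.ne ha
  have hindep : ∀ m : ℕ, (b : G) * (a : G) ^ m ≠ 1 := by
    intro m h
    apply hnot
    have h1 : b * a ^ m = 1 := Subtype.ext (by simpa using h)
    have h2 : b = (a ^ m)⁻¹ := eq_inv_of_mul_eq_one_left h1
    rw [h2]
    exact Subgroup.inv_mem _ (Subgroup.pow_mem _ (Subgroup.mem_zpowers a) m)
  have hgen := Cfsg.Agent.Lib.Helper7.cgen_eq_of_rank_two hcomm hbA haA hbp hap ha1 hindep
    (Nat.card O) O rfl (Subgroup.le_normalizer_of_normal)
    (Nat.Coprime.coprime_dvd_left (Subgroup.card_dvd_of_le hAH) hOc.symm)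
  have hON : O ≤ Subgroup.normalizer (H : Set G) := by
    rw [← hgen]
    unfold Cfsg.Agent.Lib.Helper7.cgen
    apply iSup₂_le
    intro x hx g hg
    have hgc : g * x = x * g := by
      have := Subgroup.mem_centralizer_singleton_iff.mp (Subgroup.mem_inf.mp hg).2
      exact this
    apply mem_normalizer_of_TI H hTI g x (hAH hx.1) hx.2
    rw [hgc, mul_inv_cancel_right]
    exact hAH hx.1
  apply hnn
  rw [← Subgroup.normalizer_eq_top_iff, eq_top_iff, ← hc]
  exact sup_le hON le_rfl

/-- all Sylow subgroups of `H` are cyclic -/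
theorem sylow_cyclic_of_PU {H : Type*} [Group H] [Finite H] (hPU : Cfsg.Agent.S3358L.PU H)
    (h2 : ∀ P : Sylow 2 H, IsMulCommutative (P : Subgroup H)) :
    ∀ (p : ℕ) [Fact p.Prime] (P : Sylow p H), IsCyclic (P : Subgroup H) := by
  intro p _ P
  rcases Cfsg.Agent.S3358L.U1_pgroup hPU p (P : Subgroup H) P.2 with h | ⟨hp2, n, ⟨e⟩⟩
  · exact h
  · subst hp2
    have hcomm := h2 P
    rcases Nat.eq_zero_or_pos n with hn | hn
    · subst hn
      have : IsCyclic (QuaternionGroup (2 ^ 0)) := by
        rw [pow_zero]; exact QuaternionGroup.quaternionGroup_one_isCyclic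
      exact isCyclic_of_surjective e.symm e.symm.surjective
    · exfalso
      have h2n : 2 ≤ 2 ^ n := by
        calc 2 = 2 ^ 1 := by norm_num
          _ ≤ 2 ^ n := Nat.pow_le_pow_right (by norm_num) hn
      apply Cfsg.Agent.Lib.Helper5.S0686.quaternion_not_comm h2n
      have := hcomm.is_comm.comm (e.symm (QuaternionGroup.a 1)) (e.symm (QuaternionGroup.xa 0))
      have := congrArg e this
      simpa using this

end Cfsg.Agent.Lib.Helper5.TIH
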