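import Mathlib
import Cfsg.Prelude.Def_OddOrderLocal
import Cfsg.Agent.Lib.Helper5.TIH.Basic
import Cfsg.Agent.Lib.Helper5.TIH.PU
import Cfsg.Agent.S4117

/-!
# `C_H(Q)` is a Hall subgroup of `G` with a normal complement

`H` a non-normal TI-subgroup of the `π(H)`-separable group `G`, Hall in `N_G(H) = H Q`,
with abelian Sylow `2`-subgroups.
-/

namespace Cfsg.Agent.Lib.Helper5.TIH

variable {G : Type*} [Group G]

/-- conjugation action of a subgroup of `N_G(H)` on `H` -/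
@[reducible] def conjAct (H Q : Subgroup G) (hQ : Q ≤ Subgroup.normalizer (H : Set G)) :
    MulDistribMulAction Q H where
  smul q h := ⟨q * h * q⁻¹, (Subgroup.mem_normalizer_iff.mp (hQ q.2) h).mp h.2⟩
  one_smul h := Subtype.ext (by
    show ((1 : Q) : G) * (h : G) * ((1 : Q) : G)⁻¹ = h
    simp)
  mul_smul q r h := Subtype.ext (by
    show ((q * r : Q) : G) * (h : G) * ((q * r : Q) : G)⁻¹ =
      (q : G) * ((r : G) * (h : G) * (r : G)⁻¹) * (q : G)⁻¹
    simp [mul_assoc])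
  smul_mul q h k := Subtype.ext (by
    show (q : G) * ((h * k : H) : G) * (q : G)⁻¹ =
      ((q : G) * (h : G) * (q : G)⁻¹) * ((q : G) * (k : G) * (q : G)⁻¹)
    simp [mul_assoc])
  smul_one q := Subtype.ext (by
    show (q : G) * ((1 : H) : G) * (q : G)⁻¹ = 1
    simp)

/-- a complement to `H` in `N_G(H)` has order prime to `|H|` when `H` is Hall in `N_G(H)` -/
lemma card_coprime_of_complement [Finite G] (H Q : Subgroup G)
    (hQ : Q ≤ Subgroup.normalizer (H : Set G)) (hQH : Q ⊓ H = ⊥)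
    (hHall : (Nat.card H).Coprime (H.subgroupOf (Subgroup.normalizer (H : Set G))).index) :
    (Nat.card Q).Coprime (Nat.card H) := by
  have hnorm : (H.subgroupOf (Subgroup.normalizer (H : Set G))).Normal :=
    Subgroup.normal_in_normalizer
  let f : Q →* (Subgroup.normalizer (H : Set G)) ⧸ (H.subgroupOf (Subgroup.normalizer (H : Set G))) :=
    (QuotientGroup.mk' _).comp (Subgroup.inclusion hQ)
  have hf : Function.Injective f := by
    rw [injective_iff_map_eq_one]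
    intro q hq
    have h0 : (Subgroup.inclusion hQ q) ∈ H.subgroupOf (Subgroup.normalizer (H : Set G)) := by
      rw [← QuotientGroup.eq_one_iff]; exact hq
    rw [Subgroup.mem_subgroupOf] at h0
    have h1 : (q : G) ∈ Q ⊓ H := ⟨q.2, h0⟩
    rw [hQH, Subgroup.mem_bot] at h1
    exact Subtype.ext h1
  have hdvd := Subgroup.card_dvd_of_injective f hf
  rw [← Subgroup.index_eq_card] at hdvd
  exact (Nat.Coprime.coprime_dvd_right hdvd hHall).symm

/-- `|B A| = |A| |B|` for `A` normal with `A ∩ B = 1` -/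
lemma card_sup_eq_of_disjoint [Finite G] (A B : Subgroup G) [A.Normal] (h : A ⊓ B = ⊥) :
    Nat.card (B ⊔ A : Subgroup G) = Nat.card A * Nat.card B := by
  have h7 : A.relIndex B = Nat.card B := by
    rw [← Subgroup.inf_relIndex_right, h, Subgroup.relIndex_bot_left]
  have h8 := Subgroup.relIndex_mul_relIndex ⊥ A (B ⊔ A) bot_le le_sup_right
  rw [Subgroup.relIndex_bot_left, Subgroup.relIndex_bot_left, Subgroup.relIndex_sup_right, h7]
    at h8
  exact h8.symm

/-- a subgroup normalized by three subgroups generating `G` is normal -/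
lemma normal_of_three (N X Y Z : Subgroup G) (htop : X ⊔ Y ⊔ Z = ⊤)
    (hX : ∀ s ∈ X, ∀ x ∈ N, s * x * s⁻¹ ∈ N) (hY : ∀ s ∈ Y, ∀ x ∈ N, s * x * s⁻¹ ∈ N)
    (hZ : ∀ s ∈ Z, ∀ x ∈ N, s * x * s⁻¹ ∈ N) : N.Normal := by
  have key : ∀ W : Subgroup G, (∀ s ∈ W, ∀ x ∈ N, s * x * s⁻¹ ∈ N) →
      W ≤ Subgroup.normalizer (N : Set G) := by
    intro W hW s hs
    rw [Subgroup.mem_normalizer_iff]
    intro x
    refine ⟨hW s hs x, fun hx => ?_⟩
    have := hW s⁻¹ (W.inv_mem hs) _ hx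
    have e : s⁻¹ * (s * x * s⁻¹) * s⁻¹⁻¹ = x := by group
    rwa [e] at this
  rw [← Subgroup.normalizer_eq_top_iff, eq_top_iff, ← htop]
  exact sup_le (sup_le (key X hX) (key Y hY)) (key Z hZ)

lemma conj_mem_sup {N A B : Subgroup G} {s : G} (hA : ∀ x ∈ A, s * x * s⁻¹ ∈ N)
    (hB : ∀ x ∈ B, s * x * s⁻¹ ∈ N) : ∀ x ∈ A ⊔ B, s * x * s⁻¹ ∈ N := by
  intro x hx
  have hle : A ⊔ B ≤ N.comap (MulAut.conj s).toMonoidHom :=
    sup_le (fun y hy => by simpa using hA y hy) (fun y hy => by simpa using hB y hy)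
  have := hle hx
  simpa using this

/-- **Main theorem** (statement S4151). -/
theorem main [Finite G] (H : Subgroup G)
    (hTI : Cfsg.IsTISubset (H : Set G)) (hnn : ¬ H.Normal)
    (hHall : (Nat.card H).Coprime (H.subgroupOf (Subgroup.normalizer (H : Set G))).index)
    (hsep : ∃ (n : ℕ) (M : Fin (n + 1) → Subgroup G), M 0 = ⊥ ∧ M (Fin.last n) = ⊤ ∧ Monotone M ∧
      (∀ i, (M i).Normal) ∧
      ∀ i : Fin n, (∀ q : ℕ, q.Prime → q ∣ (M i.castSucc).relIndex (M i.succ) → q ∣ Nat.card H) ∨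
        ((M i.castSucc).relIndex (M i.succ)).Coprime (Nat.card H))
    (h2 : ∀ P : Sylow 2 H, IsMulCommutative (P : Subgroup H))
    (Q : Subgroup G) (hQ : Q ≤ Subgroup.normalizer (H : Set G)) (hQH : Q ⊓ H = ⊥)
    (hQH' : Q ⊔ H = Subgroup.normalizer (H : Set G)) :
    (Nat.card ↥(H ⊓ Subgroup.centralizer (Q : Set G))).Coprime
        (H ⊓ Subgroup.centralizer (Q : Set G)).index ∧
    ∃ N : Subgroup G, N.Normal ∧ N.IsComplement' (H ⊓ Subgroup.centralizer (Q : Set G)) := by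
  obtain ⟨O, hOn, hOc, hOmax⟩ := exists_largest_normal_coprime H
  have hc := sup_normalizer_eq_top H hTI hnn hHall hsep O hOn hOc hOmax
  have hhall := hall_of_TI H hTI hHall
  have hPU := PU_of_TI H hTI hnn O hOn hOc hc
  have hcyc := sylow_cyclic_of_PU hPU h2
  have hQcop := card_coprime_of_complement H Q hQ hQH hHall
  let _ := conjAct H Q hQ
  obtain ⟨r1, -, r3, r4, r5⟩ := Cfsg.Agent.S4117.result (G := H) (A := Q) hQcop hcyc
  obtain ⟨C, hCdef⟩ : ∃ C : Subgroup G, C = H ⊓ Subgroup.centralizer (Q : Set G) := ⟨_, rfl⟩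
  rw [← hCdef]
  have hCH : C ≤ H := hCdef ▸ inf_le_left
  have hfix : (MulAction.fixedPoints Q H : Set H) = ((C.subgroupOf H : Subgroup H) : Set H) := by
    ext h
    rw [MulAction.mem_fixedPoints, SetLike.mem_coe, Subgroup.mem_subgroupOf, hCdef,
      Subgroup.mem_inf, Subgroup.mem_centralizer_iff]
    constructor
    · intro hh
      refine ⟨h.2, fun q hq => ?_⟩
      have h0 := congrArg Subtype.val (hh ⟨q, hq⟩)
      have h1 : q * (h : G) * q⁻¹ = h := h0
      calc q * (h : G) = q * (h : G) * q⁻¹ * q := by group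
        _ = (h : G) * q := by rw [h1]
    · rintro ⟨_, hh⟩ q
      apply Subtype.ext
      show (q : G) * h * (q : G)⁻¹ = h
      rw [hh q q.2, mul_inv_cancel_right]
  have hCHcard : Nat.card (C.subgroupOf H) = Nat.card C :=
    Nat.card_congr (Subgroup.subgroupOfEquivOfLe hCH).toEquiv
  have hcardfix : Nat.card (MulAction.fixedPoints Q H : Set H) = Nat.card C := by
    rw [hfix]
    exact hCHcard
  rw [hcardfix] at r1
  obtain ⟨Kc, hKc⟩ : ∃ Kc : Subgroup H,
      Kc = Subgroup.closure {y : H | ∃ (a : Q) (g : H), y = g⁻¹ * a • g} := ⟨_, rfl⟩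
  rw [← hKc] at r3 r4 r5
  rw [hfix, Subgroup.closure_eq] at r5
  have hdisjH : Kc ⊓ C.subgroupOf H = ⊥ := by
    rw [eq_bot_iff]
    intro x hx
    have hx' : x ∈ (Kc : Set H) ∩ MulAction.fixedPoints Q H :=
      ⟨hx.1, by rw [hfix]; exact hx.2⟩
    rw [r4] at hx'
    exact hx'
  have h8 := card_sup_eq_of_disjoint Kc (C.subgroupOf H) hdisjH
  rw [sup_comm, r5, Subgroup.card_top, hCHcard] at h8
  have hKcop : (Nat.card C).Coprime (Nat.card Kc) := by
    have : Nat.card H / Nat.card C = Nat.card Kc := by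
      rw [h8]; exact Nat.mul_div_cancel _ Nat.card_pos
    rwa [this] at r1
  have hfirst : (Nat.card C).Coprime C.index := by
    rw [← Subgroup.relIndex_mul_index hCH]
    apply Nat.Coprime.mul_right
    · have h9 := Subgroup.relIndex_mul_relIndex ⊥ C H bot_le hCH
      rw [Subgroup.relIndex_bot_left, Subgroup.relIndex_bot_left] at h9
      have : C.relIndex H = Nat.card Kc := by
        apply Nat.eq_of_mul_eq_mul_left (Nat.card_pos : 0 < Nat.card C)
        rw [h9, h8, mul_comm]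
      rw [this]; exact hKcop
    · exact Nat.Coprime.coprime_dvd_left (Subgroup.card_dvd_of_le hCH) hhall
  refine ⟨hfirst, ?_⟩
  -- the normal complement
  obtain ⟨Kc', hKc'⟩ : ∃ Kc' : Subgroup G, Kc' = Kc.map H.subtype := ⟨_, rfl⟩
  have hcardKc' : Nat.card Kc' = Nat.card Kc := by
    rw [hKc', Subgroup.card_map_of_injective (Subgroup.subtype_injective H)]
  have cKH : ∀ s ∈ H, ∀ x ∈ Kc', s * x * s⁻¹ ∈ Kc' := by
    intro s hs x hx
    rw [hKc'] at hx ⊢
    obtain ⟨k, hk, rfl⟩ := hx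
    exact ⟨⟨s, hs⟩ * k * ⟨s, hs⟩⁻¹, r3.conj_mem k hk _, by simp⟩
  have hKQ : ∀ (q : Q) (k : H), k ∈ Kc → q • k ∈ Kc := by
    intro q k hk
    have hmap : Kc.map (MulDistribMulAction.toMonoidHom H q) ≤ Kc := by
      rw [hKc, MonoidHom.map_closure, Subgroup.closure_le]
      rintro _ ⟨y, ⟨a, g, rfl⟩, rfl⟩
      apply Subgroup.subset_closure
      refine ⟨q * a * q⁻¹, q • g, ?_⟩
      simp only [MulDistribMulAction.toMonoidHom_apply]
      rw [smul_mul', smul_inv', mul_smul, mul_smul, inv_smul_smul]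
    exact hmap ⟨k, hk, rfl⟩
  have cKQ : ∀ s ∈ Q, ∀ x ∈ Kc', s * x * s⁻¹ ∈ Kc' := by
    intro s hs x hx
    rw [hKc'] at hx ⊢
    obtain ⟨k, hk, rfl⟩ := hx
    exact ⟨(⟨s, hs⟩ : Q) • k, hKQ _ k hk, rfl⟩
  have cQH : ∀ s ∈ H, ∀ x ∈ Q, s * x * s⁻¹ ∈ Kc' ⊔ Q := by
    intro s hs x hx
    have e : s * x * s⁻¹ = (s * (x * s⁻¹ * x⁻¹)) * x := by group
    rw [e]
    apply Subgroup.mul_mem _ (Subgroup.mem_sup_left _) (Subgroup.mem_sup_right hx)
    rw [hKc']
    refine ⟨(⟨s, hs⟩⁻¹ : H)⁻¹ * (⟨x, hx⟩ : Q) • (⟨s, hs⟩⁻¹ : H), ?_, ?_⟩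
    · rw [hKc]; exact Subgroup.subset_closure ⟨⟨x, hx⟩, ⟨s, hs⟩⁻¹, rfl⟩
    · show (s⁻¹)⁻¹ * (x * s⁻¹ * x⁻¹) = s * (x * s⁻¹ * x⁻¹)
      rw [inv_inv]
  have htop : O ⊔ H ⊔ Q = ⊤ := by rw [sup_assoc, sup_comm H Q, hQH', hc]
  obtain ⟨N1, hN1⟩ : ∃ N1 : Subgroup G, N1 = O ⊔ Kc' := ⟨_, rfl⟩
  have hON1 : O ≤ N1 := hN1 ▸ le_sup_left
  have hKN1 : Kc' ≤ N1 := hN1 ▸ le_sup_right
  have hN1n : N1.Normal := by
    apply normal_of_three N1 O H Q htop
    · intro s hs x hx
      exact N1.mul_mem (N1.mul_mem (hON1 hs) hx) (N1.inv_mem (hON1 hs))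
    · intro s hs
      rw [hN1]
      exact conj_mem_sup (fun x hx => Subgroup.mem_sup_left (hOn.conj_mem x hx s))
        (fun x hx => Subgroup.mem_sup_right (cKH s hs x hx))
    · intro s hs
      rw [hN1]
      exact conj_mem_sup (fun x hx => Subgroup.mem_sup_left (hOn.conj_mem x hx s))
        (fun x hx => Subgroup.mem_sup_right (cKQ s hs x hx))
  obtain ⟨N, hN⟩ : ∃ N : Subgroup G, N = N1 ⊔ Q := ⟨_, rfl⟩
  have hN1N : N1 ≤ N := hN ▸ le_sup_left
  have hQN : Q ≤ N := hN ▸ le_sup_right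
  have hNn : N.Normal := by
    apply normal_of_three N O H Q htop
    · intro s hs x hx
      have hsN := hN1N (hON1 hs)
      exact N.mul_mem (N.mul_mem hsN hx) (N.inv_mem hsN)
    · intro s hs
      rw [hN]
      refine conj_mem_sup (fun x hx => Subgroup.mem_sup_left (hN1n.conj_mem x hx s))
        (fun x hx => ?_)
      have hle : Kc' ⊔ Q ≤ N1 ⊔ Q := sup_le (le_trans hKN1 le_sup_left) le_sup_right
      exact hle (cQH s hs x hx)
    · intro s hs x hx
      have hsN := hQN hs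
      exact N.mul_mem (N.mul_mem hsN hx) (N.inv_mem hsN)
  have hcardN : Nat.card N ∣ Nat.card O * Nat.card Kc * Nat.card Q := by
    have h1 := card_sup_dvd N1 Q
    have h2 := card_sup_dvd O Kc'
    rw [sup_comm, ← hN] at h1
    rw [sup_comm, ← hN1, hcardKc'] at h2
    exact dvd_trans h1 (Nat.mul_dvd_mul_right h2 _)
  have hNC : (Nat.card N).Coprime (Nat.card C) := by
    apply Nat.Coprime.coprime_dvd_left hcardN
    apply Nat.Coprime.mul_left (Nat.Coprime.mul_left _ _) _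
    · exact Nat.Coprime.coprime_dvd_right (Subgroup.card_dvd_of_le hCH) hOc
    · exact hKcop.symm
    · exact Nat.Coprime.coprime_dvd_right (Subgroup.card_dvd_of_le hCH) hQcop
  have hHle : H ≤ N ⊔ C := by
    intro h hh
    have hmem : (⟨h, hh⟩ : H) ∈ C.subgroupOf H ⊔ Kc := by rw [sup_comm, r5]; trivial
    rw [Subgroup.mem_sup_of_normal_right] at hmem
    obtain ⟨y, hy, z, hz, hyz⟩ := hmem
    have e : h = (y : G) * (z : G) := by
      have := congrArg Subtype.val hyz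
      simpa using this.symm
    rw [e]
    apply Subgroup.mul_mem
    · exact Subgroup.mem_sup_right (Subgroup.mem_subgroupOf.mp hy)
    · apply Subgroup.mem_sup_left
      apply hN1N; apply hKN1
      rw [hKc']
      exact ⟨z, hz, rfl⟩
  have hNCtop : N ⊔ C = ⊤ := by
    rw [eq_top_iff, ← htop]
    exact sup_le (sup_le (le_trans (le_trans hON1 hN1N) le_sup_left) hHle)
      (le_trans hQN le_sup_left)
  refine ⟨N, hNn, ?_⟩
  apply Subgroup.isComplement'_of_disjoint_and_mul_eq_univ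
    (Subgroup.disjoint_of_coprime_natCard hNC)
  rw [← Subgroup.normal_mul, hNCtop, Subgroup.coe_top]

end Cfsg.Agent.Lib.Helper5.TIH
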